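import Mathlib

/-!
A group generated by an involution, an element of order three and an involution inverting it,
with the relations of the alternating group of degree five, has at most sixty elements.
-/

set_option autoImplicit false
set_option linter.unusedSectionVars false

namespace Cfsg.Agent.Block.Spec5

variable {G : Type*} [Group G] [Finite G]

/-- The subgroup `{1, a, b, a * b}` of two commuting involutions. -/
def fourSub (a b : G) (ha : a * a = 1) (hb : b * b = 1) (hab : a * b = b * a) : Subgroup G where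
  carrier := {1, a, b, a * b}
  one_mem' := Or.inl rfl
  mul_mem' := by
    have e1 : a * (a * b) = b := by rw [← mul_assoc, ha, one_mul]
    have e2 : b * (a * b) = a := by rw [hab, ← mul_assoc, hb, one_mul]
    have e3 : a * b * a = b := by rw [hab, mul_assoc, ha, mul_one]
    have e4 : a * b * b = a := by rw [mul_assoc, hb, mul_one]
    have e5 : a * b * (a * b) = 1 := by rw [← mul_assoc, e3, hb]
    intro x y hx hy
    simp only [Set.mem_insert_iff, Set.mem_singleton_iff] at hx hy ⊢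
    rcases hx with rfl | rfl | rfl | rfl <;> rcases hy with rfl | rfl | rfl | rfl <;>
      simp only [one_mul, mul_one, ha, hb, e1, e2, e3, e4, e5, ← hab, true_or, or_true]
  inv_mem' := by
    have ia : a⁻¹ = a := inv_eq_of_mul_eq_one_left ha
    have ib : b⁻¹ = b := inv_eq_of_mul_eq_one_left hb
    intro x hx
    simp only [Set.mem_insert_iff, Set.mem_singleton_iff] at hx ⊢
    rcases hx with rfl | rfl | rfl | rfl <;>
      simp only [inv_one, mul_inv_rev, ia, ib, ← hab, true_or, or_true]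

theorem mem_fourSub {a b : G} {ha : a * a = 1} {hb : b * b = 1} {hab : a * b = b * a} {x : G} :
    x ∈ fourSub a b ha hb hab ↔ x = 1 ∨ x = a ∨ x = b ∨ x = a * b := Iff.rfl

theorem card_fourSub_le {a b : G} {ha : a * a = 1} {hb : b * b = 1} {hab : a * b = b * a} :
    Nat.card (fourSub a b ha hb hab) ≤ 4 := by
  let f : Fin 4 → fourSub a b ha hb hab := ![⟨1, Or.inl rfl⟩, ⟨a, Or.inr (Or.inl rfl)⟩,
    ⟨b, Or.inr (Or.inr (Or.inl rfl))⟩, ⟨a * b, Or.inr (Or.inr (Or.inr rfl))⟩]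
  have hf : Function.Surjective f := by
    rintro ⟨x, hx⟩
    rcases mem_fourSub.mp hx with rfl | rfl | rfl | rfl
    exacts [⟨0, rfl⟩, ⟨1, rfl⟩, ⟨2, rfl⟩, ⟨3, rfl⟩]
  simpa using Nat.card_le_card_of_surjective f hf

/-- The relations. -/
structure Gens (e w s : G) : Prop where
  ee : e * e = 1
  ss : s * s = 1
  www : w ^ 3 = 1
  we : (w * e) ^ 3 = 1
  sw : s * w * s = w⁻¹
  se : (s * e) ^ 3 = 1

variable {e w s : G}

theorem Gens.w_inv (h : Gens e w s) : w⁻¹ = w * w :=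
  inv_eq_of_mul_eq_one_left (by rw [← h.www, pow_succ, pow_two])

theorem Gens.ses (h : Gens e w s) : s * e * s = e * s * e := by
  have h3 : s * e * s * (e * s * e) = 1 := by rw [← h.se]; simp only [pow_succ, pow_zero, one_mul, mul_assoc]
  rw [eq_inv_of_mul_eq_one_left h3, mul_inv_rev, mul_inv_rev, inv_eq_of_mul_eq_one_left h.ee,
    inv_eq_of_mul_eq_one_left h.ss, mul_assoc]

theorem Gens.e2_sq (h : Gens e w s) : (w * e * w⁻¹) * (w * e * w⁻¹) = 1 := by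
  rw [show (w * e * w⁻¹) * (w * e * w⁻¹) = w * (e * e) * w⁻¹ by group, h.ee]
  group

theorem Gens.e3_eq (h : Gens e w s) : w * (w * e * w⁻¹) * w⁻¹ = (w * e * w⁻¹) * e := by
  have h3 : w * e * (w * e) * (w * e) = 1 := by rw [← h.we]; simp only [pow_succ, pow_zero, one_mul, mul_assoc]
  have h1 : (w * e * w⁻¹) * (w * (w * e * w⁻¹) * w⁻¹) * e = 1 := by
    calc (w * e * w⁻¹) * (w * (w * e * w⁻¹) * w⁻¹) * e = w * e * (w * e) * ((w * w)⁻¹ * e) := by group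
      _ = w * e * (w * e) * (w * e) := by rw [← h.w_inv, inv_inv]
      _ = 1 := h3
  calc w * (w * e * w⁻¹) * w⁻¹
      = (w * e * w⁻¹)⁻¹ * ((w * e * w⁻¹) * (w * (w * e * w⁻¹) * w⁻¹) * e) * e⁻¹ := by group
    _ = (w * e * w⁻¹) * e := by
      rw [h1, mul_one, inv_eq_of_mul_eq_one_left h.ee, inv_eq_of_mul_eq_one_left h.e2_sq]

theorem Gens.comm (h : Gens e w s) : e * (w * e * w⁻¹) = (w * e * w⁻¹) * e := by
  have h2 : ((w * e * w⁻¹) * e) * ((w * e * w⁻¹) * e) = 1 := by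
    rw [← h.e3_eq, show w * (w * e * w⁻¹) * w⁻¹ * (w * (w * e * w⁻¹) * w⁻¹) =
      w * ((w * e * w⁻¹) * (w * e * w⁻¹)) * w⁻¹ by group, h.e2_sq]
    group
  calc e * (w * e * w⁻¹) = e⁻¹ * (w * e * w⁻¹)⁻¹ := by
        rw [inv_eq_of_mul_eq_one_left h.ee, inv_eq_of_mul_eq_one_left h.e2_sq]
    _ = ((w * e * w⁻¹) * e)⁻¹ := (mul_inv_rev _ _).symm
    _ = (w * e * w⁻¹) * e := inv_eq_of_mul_eq_one_left h2

/-- The four group. -/
def Gens.B (h : Gens e w s) : Subgroup G := fourSub e (w * e * w⁻¹) h.ee h.e2_sq h.comm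

theorem Gens.mem_B (h : Gens e w s) {x : G} :
    x ∈ h.B ↔ x = 1 ∨ x = e ∨ x = w * e * w⁻¹ ∨ x = e * (w * e * w⁻¹) := Iff.rfl

theorem Gens.e_mem (h : Gens e w s) : e ∈ h.B := h.mem_B.mpr (Or.inr (Or.inl rfl))

theorem Gens.B_cases (h : Gens e w s) {x : G} (hx : x ∈ h.B) :
    x = 1 ∨ ∃ j : ℕ, x = w ^ j * e * (w ^ j)⁻¹ := by
  rcases h.mem_B.mp hx with rfl | rfl | rfl | rfl
  · exact Or.inl rfl
  · exact Or.inr ⟨0, by simp⟩
  · exact Or.inr ⟨1, by rw [pow_one]⟩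
  · exact Or.inr ⟨2, by rw [h.comm, ← h.e3_eq, pow_two]; group⟩

theorem Gens.B_conj (h : Gens e w s) {x : G} (hx : x ∈ h.B) (i : ℕ) : w ^ i * x * (w ^ i)⁻¹ ∈ h.B := by
  induction i with
  | zero => simpa using hx
  | succ i ih =>
    rw [pow_succ', show w * w ^ i * x * (w * w ^ i)⁻¹ = w * (w ^ i * x * (w ^ i)⁻¹) * w⁻¹ by group]
    refine h.mem_B.mpr ?_
    rcases h.mem_B.mp ih with e1 | e1 | e1 | e1 <;> rw [e1]
    · exact Or.inl (by group)
    · exact Or.inr (Or.inr (Or.inl rfl))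
    · exact Or.inr (Or.inr (Or.inr (by rw [h.e3_eq, h.comm])))
    · refine Or.inr (Or.inl ?_)
      rw [show w * (e * (w * e * w⁻¹)) * w⁻¹ = (w * e * w⁻¹) * (w * (w * e * w⁻¹) * w⁻¹) by group, h.e3_eq,
        ← mul_assoc, h.e2_sq, one_mul]

theorem Gens.pow_neg (h : Gens e w s) (i : ℕ) : (w ^ i)⁻¹ = w ^ (2 * i) := by
  rw [← inv_pow, h.w_inv, ← pow_two, ← pow_mul]

theorem Gens.B_conj' (h : Gens e w s) {x : G} (hx : x ∈ h.B) (i : ℕ) : (w ^ i)⁻¹ * x * w ^ i ∈ h.B := by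
  have := h.B_conj hx (2 * i)
  rwa [← h.pow_neg, inv_inv] at this

theorem Gens.s_pow (h : Gens e w s) (i : ℕ) : s * w ^ i = w ^ (2 * i) * s := by
  have h1 : (s * w * s⁻¹) ^ i = s * w ^ i * s⁻¹ := conj_pow
  rw [inv_eq_of_mul_eq_one_left h.ss, h.sw, inv_pow, h.pow_neg] at h1
  rw [h1, mul_assoc _ s s, h.ss, mul_one]

/-- The elements of the two cells. -/
def Gens.cells (h : Gens e w s) : Set G :=
  {g | (∃ b ∈ h.B, ∃ i : ℕ, g = b * w ^ i) ∨ ∃ b ∈ h.B, ∃ i : ℕ, ∃ c ∈ h.B, g = b * w ^ i * s * c}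

theorem Gens.e_cells (h : Gens e w s) {g : G} (hg : g ∈ h.cells) : e * g ∈ h.cells := by
  rcases hg with ⟨b, hb, i, rfl⟩ | ⟨b, hb, i, c, hc, rfl⟩
  · exact Or.inl ⟨e * b, mul_mem h.e_mem hb, i, by rw [mul_assoc]⟩
  · exact Or.inr ⟨e * b, mul_mem h.e_mem hb, i, c, hc, by simp only [mul_assoc]⟩

theorem Gens.w_cells (h : Gens e w s) {g : G} (hg : g ∈ h.cells) : w * g ∈ h.cells := by
  rcases hg with ⟨b, hb, i, rfl⟩ | ⟨b, hb, i, c, hc, rfl⟩
  · exact Or.inl ⟨w ^ 1 * b * (w ^ 1)⁻¹, h.B_conj hb 1, i + 1, by rw [pow_one, pow_succ']; group⟩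
  · exact Or.inr ⟨w ^ 1 * b * (w ^ 1)⁻¹, h.B_conj hb 1, i + 1, c, hc, by rw [pow_one, pow_succ']; group⟩

theorem Gens.s_conj (h : Gens e w s) (j : ℕ) :
    ∃ b ∈ h.B, ∃ k : ℕ, ∃ c ∈ h.B, s * (w ^ j * e * (w ^ j)⁻¹) * s = b * w ^ k * s * c := by
  refine ⟨w ^ (2 * j) * e * (w ^ (2 * j))⁻¹, h.B_conj h.e_mem _, 2 * j + 2 * j, (w ^ j)⁻¹ * e * w ^ j,
    h.B_conj' h.e_mem _, ?_⟩
  have hinv : s⁻¹ = s := inv_eq_of_mul_eq_one_left h.ss
  calc s * (w ^ j * e * (w ^ j)⁻¹) * s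
      = (s * w ^ j) * e * ((w ^ j)⁻¹ * s⁻¹) := by rw [hinv]; group
    _ = w ^ (2 * j) * s * e * (w ^ (2 * j) * s)⁻¹⁻¹⁻¹ := by rw [← mul_inv_rev, h.s_pow, inv_inv]
    _ = w ^ (2 * j) * (s * e * s) * (w ^ (2 * j))⁻¹ := by rw [inv_inv, mul_inv_rev, hinv]; group
    _ = w ^ (2 * j) * (e * s * e) * w ^ j := by rw [h.ses, ← h.pow_neg j, inv_inv]
    _ = w ^ (2 * j) * e * ((s * w ^ j) * ((w ^ j)⁻¹ * e * w ^ j)) := by group
    _ = _ := by rw [h.s_pow, pow_add]; group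

theorem Gens.s_cells (h : Gens e w s) {g : G} (hg : g ∈ h.cells) : s * g ∈ h.cells := by
  rcases hg with ⟨b, hb, i, rfl⟩ | ⟨b, hb, i, c, hc, rfl⟩
  · refine Or.inr ⟨1, one_mem _, 2 * i, (w ^ i)⁻¹ * b * w ^ i, h.B_conj' hb i, ?_⟩
    calc s * (b * w ^ i) = (s * w ^ i) * ((w ^ i)⁻¹ * b * w ^ i) := by group
      _ = _ := by rw [h.s_pow, one_mul]
  · rcases h.B_cases hb with rfl | ⟨j, rfl⟩
    · refine Or.inl ⟨w ^ (2 * i) * c * (w ^ (2 * i))⁻¹, h.B_conj hc _, 2 * i, ?_⟩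
      calc s * (1 * w ^ i * s * c) = (s * w ^ i) * s * c := by group
        _ = w ^ (2 * i) * (s * s) * c := by rw [h.s_pow]; group
        _ = w ^ (2 * i) * c * (w ^ (2 * i))⁻¹ * w ^ (2 * i) := by rw [h.ss]; group
    · obtain ⟨b1, hb1, k, b2, hb2, e1⟩ := h.s_conj j
      refine Or.inr ⟨b1, hb1, k + 2 * (2 * i), (w ^ (2 * i))⁻¹ * b2 * w ^ (2 * i) * c,
        mul_mem (h.B_conj' hb2 _) hc, ?_⟩
      calc s * (w ^ j * e * (w ^ j)⁻¹ * w ^ i * s * c)
          = s * (w ^ j * e * (w ^ j)⁻¹) * (s * s) * w ^ i * s * c := by rw [h.ss]; group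
        _ = (s * (w ^ j * e * (w ^ j)⁻¹) * s) * ((s * w ^ i) * s) * c := by group
        _ = b1 * w ^ k * s * b2 * w ^ (2 * i) * c := by
          rw [e1, h.s_pow, mul_assoc (w ^ (2 * i)) s s, h.ss, mul_one]
        _ = b1 * w ^ k * (s * w ^ (2 * i)) * ((w ^ (2 * i))⁻¹ * b2 * w ^ (2 * i)) * c := by group
        _ = _ := by rw [h.s_pow, pow_add]; group

theorem Gens.card_cells (h : Gens e w s) : Nat.card h.cells ≤ 60 := by
  have hw : ∀ i : ℕ, w ^ i = w ^ (i % 3) := fun i => by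
    conv_lhs => rw [← Nat.mod_add_div i 3, pow_add, pow_mul, h.www, one_pow, mul_one]
  let f : (h.B × Fin 3) ⊕ (h.B × Fin 3 × h.B) → h.cells := Sum.elim
    (fun p => ⟨(p.1 : G) * w ^ (p.2 : ℕ), Or.inl ⟨_, p.1.2, _, rfl⟩⟩)
    (fun p => ⟨(p.1 : G) * w ^ (p.2.1 : ℕ) * s * p.2.2, Or.inr ⟨_, p.1.2, _, _, p.2.2.2, rfl⟩⟩)
  have hf : Function.Surjective f := by
    rintro ⟨g, hg⟩
    rcases hg with ⟨b, hb, i, rfl⟩ | ⟨b, hb, i, c, hc, rfl⟩
    · exact ⟨Sum.inl (⟨b, hb⟩, ⟨i % 3, Nat.mod_lt _ (by norm_num)⟩), Subtype.ext (by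
        show b * w ^ (i % 3) = b * w ^ i
        rw [← hw])⟩
    · exact ⟨Sum.inr (⟨b, hb⟩, ⟨i % 3, Nat.mod_lt _ (by norm_num)⟩, ⟨c, hc⟩), Subtype.ext (by
        show b * w ^ (i % 3) * s * c = b * w ^ i * s * c
        rw [← hw])⟩
  have := Nat.card_le_card_of_surjective f hf
  rw [Nat.card_sum, Nat.card_prod, Nat.card_prod, Nat.card_prod, Nat.card_fin] at this
  have hB : Nat.card h.B ≤ 4 := card_fourSub_le
  nlinarith

/-- The generated subgroup has at most sixty elements. -/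
theorem Gens.card_closure (h : Gens e w s) : Nat.card (Subgroup.closure ({e, w, s} : Set G)) ≤ 60 := by
  refine le_trans ?_ h.card_cells
  have hsub : ∀ x ∈ Subgroup.closure ({e, w, s} : Set G), x ∈ h.cells := by
    intro x hx
    induction hx using Subgroup.closure_induction_left with
    | one => exact Or.inl ⟨1, one_mem _, 0, by simp⟩
    | mul_left a ha y _ ih =>
      rcases ha with rfl | rfl | rfl
      · exact h.e_cells ih
      · exact h.w_cells ih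
      · exact h.s_cells ih
    | inv_mul_cancel a ha y _ ih =>
      rcases ha with rfl | rfl | rfl
      · rw [inv_eq_of_mul_eq_one_left h.ee]; exact h.e_cells ih
      · rw [h.w_inv, mul_assoc]; exact h.w_cells (h.w_cells ih)
      · rw [inv_eq_of_mul_eq_one_left h.ss]; exact h.s_cells ih
  exact Nat.card_mono (Set.toFinite _) hsub

end Cfsg.Agent.Block.Spec5
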