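import Mathlib
import Cfsg.Agent.Lib.Block.Spec5.Affine.Gens
import Cfsg.Agent.Lib.Block.Spec5.Inverting

/-!
An elementary abelian 2-group acted on by the generators of the alternating group of degree five,
without fixed points of elements of order three, is a sum of natural modules.
-/

set_option autoImplicit false
set_option linter.unusedSectionVars false

namespace Cfsg.Agent.Block.Spec5

open Subgroup

universe u

variable {G : Type u} [Group G] [Finite G]

/-- The fixed points of the four group. -/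
def fixI (N : Subgroup G) (e : G) : Subgroup G := N ⊓ centralizer ({e} : Set G)

theorem mem_fixI {N : Subgroup G} {e x : G} : x ∈ fixI N e ↔ x ∈ N ∧ x * e = e * x :=
  and_congr Iff.rfl mem_centralizer_singleton_iff

/-- The setting: generators acting on an elementary abelian normal 2-subgroup. -/
structure Act (N : Subgroup G) (e w s : G) : Prop where
  five : Ord5 G
  gens : Gens e w s
  wne : w ≠ 1
  wene : w * e ≠ 1
  sene : s * e ≠ 1
  normal : N.Normal
  sq : ∀ x ∈ N, x * x = 1
  card : Nat.card (fixI N e) ^ 2 = Nat.card N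
  surj : ∀ x ∈ N, e * x = x * e → ∃ y ∈ N, e * y * e * y = x

variable {N : Subgroup G} {e w s : G}

theorem Act.conj (h : Act N e w s) (g : G) {n : G} (hn : n ∈ N) : g * n * g⁻¹ ∈ N := h.normal.conj_mem n hn g

theorem Act.inv (h : Act N e w s) {n : G} (hn : n ∈ N) : n⁻¹ = n := inv_eq_of_mul_eq_one_left (h.sq n hn)

theorem Act.comm (h : Act N e w s) {a b : G} (ha : a ∈ N) (hb : b ∈ N) : a * b = b * a :=
  comm_of_sq h.sq a ha b hb

/-- The three conjugates under an element of order three multiply to one. -/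
theorem Act.three (h : Act N e w s) {g : G} (hg : g ^ 3 = 1) (hg1 : g ≠ 1) {n : G} (hn : n ∈ N) :
    n * (g * n * g⁻¹) * (g⁻¹ * n * g) = 1 := by
  have h1 := h.conj g hn
  have h2 : g⁻¹ * n * g ∈ N := by simpa using h.conj g⁻¹ hn
  have hp := mul_mem (mul_mem hn h1) h2
  refine h.five.fix_eq_one Nat.prime_three (by norm_num) hg hg1 ?_ ?_
  · rw [show (4 : ℕ) = 2 * 2 from rfl, pow_mul, (pow_two _).trans (h.sq _ hp), one_pow]
  · have hgg : g * g = g⁻¹ := eq_inv_of_mul_eq_one_left (by rw [← hg, pow_succ, pow_two])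
    refine mul_inv_eq_iff_eq_mul.mp ?_
    calc g * (n * (g * n * g⁻¹) * (g⁻¹ * n * g)) * g⁻¹
        = (g * n * g⁻¹) * ((g * g) * n * (g * g)⁻¹) * n := by group
      _ = (g * n * g⁻¹) * (g⁻¹ * n * g) * n := by rw [hgg, inv_inv]
      _ = n * ((g * n * g⁻¹) * (g⁻¹ * n * g)) := h.comm (mul_mem h1 h2) hn
      _ = n * (g * n * g⁻¹) * (g⁻¹ * n * g) := by group

/-- The commutator with the second involution factors through that with the first. -/
theorem Act.factor (h : Act N e w s) {m : G} (hm : m ∈ N) :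
    (w * m * w⁻¹) * (e * (w * m * w⁻¹) * e) = m * ((w * e * w⁻¹) * m * (w * e * w⁻¹)) := by
  have ie : e⁻¹ = e := inv_eq_of_mul_eq_one_left h.gens.ee
  have h3 : w * e * (w * e) * (w * e) = 1 := by rw [← h.gens.we, pow_succ, pow_two]
  have hew : e * w * (e * w) = w⁻¹ * e := by
    calc e * w * (e * w) = w⁻¹ * ((w * e) * (w * e) * (w * e)) * e⁻¹ := by group
      _ = w⁻¹ * e := by rw [h3, mul_one, ie]
  have hwm := h.conj w hm
  have hA : e * (w * m * w⁻¹) * e ∈ N := by have := h.conj e hwm; rwa [ie] at this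
  have hB : w⁻¹ * (e * m * e) * w ∈ N := by
    have := h.conj w⁻¹ (h.conj e hm)
    rwa [ie, inv_inv] at this
  -- first instance
  have e1 : e * (w * m * w⁻¹) * e = m * (w⁻¹ * (e * m * e) * w) := by
    have t := h.three h.gens.we h.wene hwm
    have t2 : e * (w * m * w⁻¹) * e * ((e * w * (e * w)) * m * (e * w * (e * w))⁻¹) * m = 1 := by
      calc e * (w * m * w⁻¹) * e * ((e * w * (e * w)) * m * (e * w * (e * w))⁻¹) * m
          = e * ((w * m * w⁻¹) * ((e * e) * ((w * e) * (w * m * w⁻¹) * (w * e)⁻¹)) *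
              ((w * e)⁻¹ * (w * m * w⁻¹) * (w * e))) * e⁻¹ := by group
        _ = 1 := by rw [h.gens.ee, one_mul, t]; group
    rw [hew, show w⁻¹ * e * m * (w⁻¹ * e)⁻¹ = w⁻¹ * (e * m * e) * w by rw [mul_inv_rev, inv_inv, ie]; group] at t2
    calc e * (w * m * w⁻¹) * e
        = (e * (w * m * w⁻¹) * e * (w⁻¹ * (e * m * e) * w) * m) * (m⁻¹ * (w⁻¹ * (e * m * e) * w)⁻¹) := by group
      _ = m * (w⁻¹ * (e * m * e) * w) := by rw [t2, one_mul, h.inv hm, h.inv hB]
  -- second instance
  have t := h.three h.gens.we h.wene hm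
  have hww : w * w = w⁻¹ := h.gens.w_inv.symm
  have t2 : (w * m * w⁻¹) * (w⁻¹ * (e * m * e) * w) * ((w * e * w⁻¹) * m * (w * e * w⁻¹)) = 1 := by
    calc (w * m * w⁻¹) * (w⁻¹ * (e * m * e) * w) * ((w * e * w⁻¹) * m * (w * e * w⁻¹))
        = (w * m * w⁻¹) * ((w * w) * (e * m * e⁻¹) * (w * w)⁻¹) * ((w * e⁻¹ * w⁻¹) * m * (w * e * w⁻¹)) := by
          rw [hww, ie, inv_inv]
      _ = w * (m * ((w * e) * m * (w * e)⁻¹) * ((w * e)⁻¹ * m * (w * e))) * w⁻¹ := by group
      _ = 1 := by rw [t]; group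
  rw [e1, ← mul_assoc, h.comm hwm hm, mul_assoc]
  congr 1
  have hC : (w * e * w⁻¹) * m * (w * e * w⁻¹) ∈ N := by
    have := h.conj (w * e * w⁻¹) hm
    rwa [inv_eq_of_mul_eq_one_left h.gens.e2_sq] at this
  rw [eq_inv_of_mul_eq_one_left t2, h.inv hC]

/-- A point fixed by the first involution is fixed by the second. -/
theorem Act.fix_second (h : Act N e w s) {x : G} (hx : x ∈ fixI N e) :
    x * (w * e * w⁻¹) = (w * e * w⁻¹) * x := by
  obtain ⟨hxN, hxe⟩ := mem_fixI.mp hx
  obtain ⟨y, hy, rfl⟩ := h.surj x hxN hxe.symm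
  have ie : e⁻¹ = e := inv_eq_of_mul_eq_one_left h.gens.ee
  set f := w * e * w⁻¹ with hf
  have iif : f⁻¹ = f := inv_eq_of_mul_eq_one_left h.gens.e2_sq
  have hc : e * f = f * e := h.gens.comm
  have hwy := h.conj w hy
  have hey : e * y * e ∈ N := by have := h.conj e hy; rwa [ie] at this
  have hfy : f * y * f ∈ N := by have := h.conj f hy; rwa [iif] at this
  have hewy : e * (w * y * w⁻¹) * e ∈ N := by have := h.conj e hwy; rwa [ie] at this
  -- `z` is fixed by `e`
  have hz : e * (y * (f * y * f)) * e = y * (f * y * f) := by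
    rw [← h.factor hy]
    calc e * ((w * y * w⁻¹) * (e * (w * y * w⁻¹) * e)) * e
        = (e * (w * y * w⁻¹) * e) * ((w * y * w⁻¹) * (e * e)) := by group
      _ = (e * (w * y * w⁻¹) * e) * (w * y * w⁻¹) := by rw [h.gens.ee, mul_one]
      _ = _ := h.comm hewy hwy
  have hz' : (e * y * e) * (f * (e * y * e) * f) = y * (f * y * f) := by
    calc (e * y * e) * (f * (e * y * e) * f) = e * y * ((e * f) * e) * y * (e * f) := by group
      _ = e * y * ((f * e) * e) * y * (f * e) := by rw [hc]
      _ = e * (y * (f * (e * e) * y * f)) * e := by group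
      _ = y * (f * y * f) := by rw [h.gens.ee, mul_one]; exact hz
  have hfey : f * (e * y * e) * f ∈ N := by have := h.conj f hey; rwa [iif] at this
  have key : f * (e * y * e * y) * f = e * y * e * y := by
    calc f * (e * y * e * y) * f = (f * (e * y * e) * f) * (f⁻¹ * y * f) := by group
      _ = (f * (e * y * e) * f) * (f * y * f) := by rw [iif]
      _ = ((e * y * e)⁻¹ * ((e * y * e) * (f * (e * y * e) * f))) * (f * y * f) := by group
      _ = (e * y * e) * y * ((f * y * f) * (f * y * f)) := by rw [h.inv hey, hz']; group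
      _ = e * y * e * y := by rw [h.sq _ hfy, mul_one]
  calc e * y * e * y * f = f * (f * (e * y * e * y) * f) := by
        rw [show f * (f * (e * y * e * y) * f) = (f * f) * (e * y * e * y) * f by group, h.gens.e2_sq, one_mul]
    _ = f * (e * y * e * y) := by rw [key]

/-- The fixed points are stable under `w`. -/
theorem Act.w_stable (h : Act N e w s) {x : G} (hx : x ∈ fixI N e) : w * x * w⁻¹ ∈ fixI N e := by
  obtain ⟨hxN, hxe⟩ := mem_fixI.mp hx
  have hxf : Commute x (w * e * w⁻¹) := h.fix_second hx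
  have hx3 : Commute x (w⁻¹ * e * w) := by
    have e3 : w⁻¹ * e * w = (w * e * w⁻¹) * e := by
      rw [← h.gens.e3_eq]
      calc w⁻¹ * e * w = (w * w) * e * w⁻¹⁻¹ := by rw [← h.gens.w_inv, inv_inv]
        _ = (w * w) * e * (w * w)⁻¹ := by rw [← h.gens.w_inv]
        _ = _ := by group
    rw [e3]; exact hxf.mul_right hxe
  refine mem_fixI.mpr ⟨h.conj w hxN, ?_⟩
  calc w * x * w⁻¹ * e = w * (x * (w⁻¹ * e * w)) * w⁻¹ := by group
    _ = w * ((w⁻¹ * e * w) * x) * w⁻¹ := by rw [hx3.eq]
    _ = e * (w * x * w⁻¹) := by group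

theorem Act.s_disjoint (h : Act N e w s) {x : G} (hx : x ∈ fixI N e) (hy : s * x * s ∈ fixI N e) : x = 1 := by
  obtain ⟨hxN, hxe⟩ := mem_fixI.mp hx
  have hye := (mem_fixI.mp hy).2
  have hss := h.gens.ss
  have hee := h.gens.ee
  have h1 : x * (s * e * s) = (s * e * s) * x := by
    calc x * (s * e * s) = (s * s) * x * s * e * s := by rw [hss, one_mul]; group
      _ = s * (s * x * s * e) * s := by group
      _ = s * (e * (s * x * s)) * s := by rw [hye]
      _ = s * e * s * x * (s * s) := by group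
      _ = s * e * s * x := by rw [hss, mul_one]
  rw [h.gens.ses] at h1
  have h2 : x * s = s * x := by
    calc x * s = (e * e) * x * s * (e * e) := by rw [hee, one_mul, mul_one]
      _ = e * (x * (e * s * e)) * e := by
        rw [show (e * e) * x * s * (e * e) = e * ((e * x) * s * e) * e by group, ← hxe]; group
      _ = e * (e * s * e * x) * e := by rw [h1]
      _ = (e * e) * s * e * (x * e) := by group
      _ = s * x := by rw [hee, one_mul, hxe, mul_assoc s e (e * x), ← mul_assoc e e x, hee, one_mul]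
  refine h.five.fix_eq_one Nat.prime_three (by norm_num) h.gens.se h.sene ?_ ?_
  · rw [show (4 : ℕ) = 2 * 2 from rfl, pow_mul, (pow_two _).trans (h.sq _ hxN), one_pow]
  · exact ((show Commute x s from h2).mul_right hxe).symm

/-- The module is the sum of the fixed points and their image under `s`. -/
theorem Act.decomp (h : Act N e w s) :
    Function.Injective (fun p : fixI N e × fixI N e => (p.1 : G) * (s * p.2 * s)) ∧
      ∀ n ∈ N, ∃ a b, a ∈ fixI N e ∧ b ∈ fixI N e ∧ n = a * (s * b * s) := by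
  have is' : s⁻¹ = s := inv_eq_of_mul_eq_one_left h.gens.ss
  have hinj : Function.Injective (fun p : fixI N e × fixI N e => (p.1 : G) * (s * p.2 * s)) := by
    rintro ⟨a, b⟩ ⟨a', b'⟩ heq
    have h1 : ((a'⁻¹ * a : fixI N e) : G) = s * ((b' * b⁻¹ : fixI N e) : G) * s := by
      calc ((a'⁻¹ * a : fixI N e) : G) = (a' : G)⁻¹ * ((a : G) * (s * b * s)) * (s * b * s)⁻¹ := by
            push_cast; group
        _ = (a' : G)⁻¹ * ((a' : G) * (s * b' * s)) * (s * b * s)⁻¹ := by rw [show (a : G) * (s * b * s) = _ from heq]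
        _ = s * (((b' : G)) * (s * s⁻¹) * (b : G)⁻¹) * s⁻¹ := by group
        _ = _ := by rw [mul_inv_cancel, mul_one, is']; push_cast; group
    have hb : ((b' * b⁻¹ : fixI N e) : G) = 1 := h.s_disjoint (b' * b⁻¹).2 (h1 ▸ (a'⁻¹ * a).2)
    rw [hb, mul_one, h.gens.ss] at h1
    exact Prod.ext (inv_mul_eq_one.mp (Subtype.ext h1)).symm (mul_inv_eq_one.mp (Subtype.ext hb)).symm
  refine ⟨hinj, fun n hn => ?_⟩
  have hmem : ∀ p : fixI N e × fixI N e, (p.1 : G) * (s * p.2 * s) ∈ N := fun p => by
    refine mul_mem (mem_fixI.mp p.1.2).1 ?_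
    have := h.conj s (mem_fixI.mp p.2.2).1
    rwa [is'] at this
  let f : fixI N e × fixI N e → N := fun p => ⟨_, hmem p⟩
  have hf : Function.Injective f := fun p q hpq => hinj (congrArg Subtype.val hpq)
  obtain ⟨p, hp⟩ := (Nat.bijective_iff_injective_and_card f).mpr ⟨hf, by rw [Nat.card_prod, ← pow_two, h.card]⟩ |>.2 ⟨n, hn⟩
  exact ⟨p.1, p.2, p.1.2, p.2.2, (congrArg Subtype.val hp).symm⟩

/-- The action of `e` on the second summand. -/
theorem Act.e_act (h : Act N e w s) {j : G} (hj : j ∈ fixI N e) : e * (s * j * s) * e = j * (s * j * s) := by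
  obtain ⟨hjN, hje⟩ := mem_fixI.mp hj
  have ie : e⁻¹ = e := inv_eq_of_mul_eq_one_left h.gens.ee
  have is' : s⁻¹ = s := inv_eq_of_mul_eq_one_left h.gens.ss
  have hee := h.gens.ee
  have hss := h.gens.ss
  have hsj : s * j * s ∈ N := by have := h.conj s hjN; rwa [is'] at this
  set Y := e * (s * j * s) * e with hY
  have hYN : Y ∈ N := by have := h.conj e hsj; rwa [ie] at this
  have hes : e * s = s * e * s * e := by
    rw [h.gens.ses, mul_assoc _ e e, hee, mul_one]
  have hse : s * e = e * s * e * s := by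
    rw [← h.gens.ses, mul_assoc _ s s, hss, mul_one]
  have hYs : s * Y * s = Y := by
    calc s * Y * s = (s * e * s) * j * (s * e * s) := by rw [hY]; group
      _ = e * s * (e * j * e) * s * e := by rw [h.gens.ses]; group
      _ = e * s * j * s * e := by rw [← hje, mul_assoc j e e, hee, mul_one]
      _ = Y := by rw [hY]; group
  obtain ⟨a, b, ha, hb, hab⟩ := h.decomp.2 Y hYN
  have hba : b = a := by
    have h1 : Y = b * (s * a * s) := by
      calc Y = s * (a * (s * b * s)) * s := by rw [← hab, hYs]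
        _ = (s * a * s) * (b * (s * s)) := by group
        _ = (s * a * s) * b := by rw [hss, mul_one]
        _ = b * (s * a * s) := h.comm (by have := h.conj s (mem_fixI.mp ha).1; rwa [is'] at this) (mem_fixI.mp hb).1
    exact congrArg (fun p : fixI N e × fixI N e => (p.1 : G))
      (h.decomp.1 (a₁ := (⟨b, hb⟩, ⟨a, ha⟩)) (a₂ := (⟨a, ha⟩, ⟨b, hb⟩)) (h1.symm.trans hab))
  subst hba
  have hsb : s * b * s ∈ N := by have := h.conj s (mem_fixI.mp hb).1; rwa [is'] at this
  have hfix : (b * (s * b * s)) * (s * j * s) ∈ fixI N e := by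
    refine mem_fixI.mpr ⟨mul_mem (mul_mem (mem_fixI.mp hb).1 hsb) hsj, ?_⟩
    rw [← hab]
    calc Y * (s * j * s) * e = Y * (e * e) * (s * j * s) * e := by rw [hee, mul_one]
      _ = Y * e * (e * (s * j * s) * e) := by group
      _ = e * (s * j * s) * (e * e) * Y := by rw [hY]; group
      _ = e * ((s * j * s) * Y) := by rw [hee, mul_one]; group
      _ = e * (Y * (s * j * s)) := by rw [h.comm hsj hYN]
  have h2 : (s * (b * j) * s) ∈ fixI N e := by
    have := mul_mem (inv_mem hb) hfix
    rwa [show b⁻¹ * (b * (s * b * s) * (s * j * s)) = s * b * (s * s) * j * s by group, hss, mul_one,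
      show s * b * j * s = s * (b * j) * s by group] at this
  have hbj : b * j = 1 := h.s_disjoint (mul_mem hb hj) h2
  rw [eq_inv_of_mul_eq_one_left hbj, h.inv hjN] at hab
  exact hab

/-- The action of `w` on the second summand. -/
theorem Act.w_act (h : Act N e w s) (j : G) : w * (s * j * s) * w⁻¹ = s * (w⁻¹ * j * w) * s := by
  have is' : s⁻¹ = s := inv_eq_of_mul_eq_one_left h.gens.ss
  have h1 : w * s = s * w⁻¹ := by
    rw [← h.gens.sw, show s * (s * w * s) = (s * s) * w * s by group, h.gens.ss, one_mul]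
  calc w * (s * j * s) * w⁻¹ = (w * s) * j * (s⁻¹ * w⁻¹) := by rw [is']; group
    _ = (w * s) * j * (w * s)⁻¹ := by rw [mul_inv_rev]
    _ = s * (w⁻¹ * j * w) * s := by rw [h1, mul_inv_rev, inv_inv, is']; group

end Cfsg.Agent.Block.Spec5
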