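import Mathlib
import Cfsg.Agent.Lib.Fus.PSLTwo
import Cfsg.Agent.Lib.Recog.SpectrumA6
import Cfsg.Agent.Lib.Recog.A5Spectrum
import Cfsg.Agent.Lib.Block.Spec5.Main
import Cfsg.Agent.Lib.Block.Spec5.Affine.Module

/-!
A minimal extension of an elementary abelian 2-group by the alternating group of degree five with
element orders at most five is the affine group of the plane over the field with four elements.
-/

set_option autoImplicit false
set_option linter.unusedSectionVars false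
set_option maxRecDepth 8000

namespace Cfsg.Agent.Block.Spec5

open Subgroup Matrix

universe u

variable {G : Type u} [Group G] [Finite G]

theorem a5_affine_data : ∃ e w s k : alternatingGroup (Fin 5),
    InvPair 3 k e ∧ InvPair 3 w s ∧ (w * e) ^ 3 = 1 ∧ w * e ≠ 1 ∧ (s * e) ^ 3 = 1 ∧ s * e ≠ 1 ∧
      closure ({e, w, s} : Set (alternatingGroup (Fin 5))) = ⊤ := by
  let e : alternatingGroup (Fin 5) :=
    ⟨Equiv.swap 0 1 * Equiv.swap 2 3, Equiv.Perm.mem_alternatingGroup.mpr (by decide)⟩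
  let b : alternatingGroup (Fin 5) :=
    ⟨Equiv.swap 1 2 * Equiv.swap 0 3, Equiv.Perm.mem_alternatingGroup.mpr (by decide)⟩
  let w : alternatingGroup (Fin 5) :=
    ⟨Equiv.swap 0 1 * Equiv.swap 1 2, Equiv.Perm.mem_alternatingGroup.mpr (by decide)⟩
  let s : alternatingGroup (Fin 5) :=
    ⟨Equiv.swap 0 1 * Equiv.swap 3 4, Equiv.Perm.mem_alternatingGroup.mpr (by decide)⟩
  let k : alternatingGroup (Fin 5) :=
    ⟨Equiv.swap 0 1 * Equiv.swap 1 4, Equiv.Perm.mem_alternatingGroup.mpr (by decide)⟩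
  refine ⟨e, w, s, k, ⟨Nat.prime_three, by decide, by decide +kernel, by decide +kernel, by decide +kernel, by decide +kernel⟩,
    ⟨Nat.prime_three, by decide, by decide +kernel, by decide +kernel, by decide +kernel, by decide +kernel⟩,
    by decide +kernel, by decide +kernel, by decide +kernel, by decide +kernel, ?_⟩
  set H := closure ({e, w, s} : Set (alternatingGroup (Fin 5))) with hH
  have he : e ∈ H := subset_closure (Or.inl rfl)
  have hw : w ∈ H := subset_closure (Or.inr (Or.inl rfl))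
  have hs : s ∈ H := subset_closure (Or.inr (Or.inr rfl))
  have d : FourData e b w := by constructor <;> decide +kernel
  have hb : b ∈ H := d.wa ▸ mul_mem (mul_mem hw he) (inv_mem hw)
  have hD : d.D ≤ H := fun x hx => by
    rcases d.mem_D.mp hx with rfl | rfl | rfl | rfl
    exacts [one_mem H, he, hb, mul_mem he hb]
  have h4 : 4 ∣ Nat.card H := d.card_D ▸ Subgroup.card_dvd_of_le hD
  have h3 : 3 ∣ Nat.card H := by
    haveI := Fact.mk Nat.prime_three
    have h := Subgroup.orderOf_dvd_natCard H hw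
    rwa [orderOf_eq_prime (show w ^ 3 = 1 by decide +kernel) d.w_ne] at h
  have h5 : 5 ∣ Nat.card H := by
    haveI := Fact.mk Nat.prime_five
    have h := Subgroup.orderOf_dvd_natCard H (mul_mem hw (mul_mem he hs))
    rwa [orderOf_eq_prime (show (w * (e * s)) ^ 5 = 1 by decide +kernel) (show w * (e * s) ≠ 1 by decide +kernel)] at h
  have h60 : 4 * 3 * 5 ∣ Nat.card H :=
    (show (4 * 3).Coprime 5 by norm_num).mul_dvd_of_dvd_of_dvd
      ((show (4 : ℕ).Coprime 3 by norm_num).mul_dvd_of_dvd_of_dvd h4 h3) h5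
  refine Subgroup.eq_top_of_le_card H ?_
  rw [alt_card.1]
  exact Nat.le_of_dvd Nat.card_pos h60

/-- The generators lift and generate a complement. -/
theorem exists_gens (h : Ord5 G) (N : Subgroup G) [hNn : N.Normal] (hN : IsPGroup 2 N)
    (f : G ⧸ N ≃* alternatingGroup (Fin 5)) :
    ∃ e w s : G, Act N e w s ∧
      (∀ x ∈ closure ({e, w, s} : Set G), x ∈ N → x = 1) ∧
      (∀ g : G, ∃ n ∈ N, ∃ k ∈ closure ({e, w, s} : Set G), g = n * k) ∧
      Nat.card (closure ({e, w, s} : Set G)) = 60 := by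
  obtain ⟨eb, wb, sb, kb, hke, hws, hwe, hwe1, hse, hse1, hgen⟩ := a5_affine_data
  have lift : ∀ {k t : alternatingGroup (Fin 5)}, InvPair 3 k t →
      ∃ k' t' : G, InvPair 3 k' t' ∧ f (k' : G ⧸ N) = k ∧ f (t' : G ⧸ N) = t := by
    intro k t hp
    have hq : InvPair 3 (f.symm k) (f.symm t) :=
      ⟨hp.prime, hp.odd, by rw [← map_pow, hp.pow, map_one],
        fun e0 => hp.ne (f.symm.injective (e0.trans (map_one _).symm)),
        by rw [← map_mul, hp.sq, map_one], by rw [← map_mul, ← map_mul, hp.inv, map_inv]⟩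
    obtain ⟨k', t', hp', e1, e2⟩ := lift_invPair h N hN hq
    exact ⟨k', t', hp', by rw [e1, f.apply_symm_apply], by rw [e2, f.apply_symm_apply]⟩
  obtain ⟨k, e, hp1, -, he⟩ := lift hke
  obtain ⟨w, s, hp2, hw, hs⟩ := lift hws
  let π : G →* alternatingGroup (Fin 5) := f.toMonoidHom.comp (QuotientGroup.mk' N)
  have hπe : π e = eb := he
  have hπw : π w = wb := hw
  have hπs : π s = sb := hs
  have three : ∀ x : G, π x ^ 3 = 1 → π x ≠ 1 → x ^ 3 = 1 ∧ x ≠ 1 := fun x h1 h2 =>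
    ⟨lift_odd h N Nat.prime_three (by norm_num) (f.injective (by rw [map_pow, map_one]; exact h1))
      (fun e0 => h2 (by show f (x : G ⧸ N) = 1; rw [e0, map_one])), fun e0 => h2 (by rw [e0, map_one])⟩
  obtain ⟨hwe', hwe1'⟩ := three (w * e) (by rw [map_mul, hπw, hπe, hwe]) (by rwa [map_mul, hπw, hπe])
  obtain ⟨hse', hse1'⟩ := three (s * e) (by rw [map_mul, hπs, hπe, hse]) (by rwa [map_mul, hπs, hπe])
  have hg : Gens e w s := ⟨hp1.sq, hp2.sq, hp2.pow, hwe', hp2.inv, hse'⟩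
  have hnn : ∀ g : G, g ∈ normalizer (N : Set G) := fun g => by
    rw [Subgroup.normalizer_eq_top]; exact Subgroup.mem_top g
  obtain ⟨hsq, hsur, hcard, -⟩ := elem_of_invPair h hN hp1 (hnn k) (hnn e)
  have hA : Act N e w s := ⟨h, hg, hp2.ne, hwe1', hse1', hNn, hsq, hcard, hsur⟩
  refine ⟨e, w, s, hA, ?_⟩
  set K := closure ({e, w, s} : Set G) with hK
  have hmap : K.map π = ⊤ := by
    rw [hK, MonoidHom.map_closure, Set.image_insert_eq, Set.image_insert_eq, Set.image_singleton, hπe, hπw, hπs]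
    exact hgen
  let g : K → alternatingGroup (Fin 5) := fun x => π x
  have hsurj : Function.Surjective g := fun a => by
    obtain ⟨x, hx, e0⟩ := (show a ∈ K.map π from hmap ▸ Subgroup.mem_top a)
    exact ⟨⟨x, hx⟩, e0⟩
  have hcK : Nat.card K = 60 :=
    le_antisymm hg.card_closure (alt_card.1 ▸ Nat.card_le_card_of_surjective g hsurj)
  have hbij : Function.Bijective g :=
    (Nat.bijective_iff_surjective_and_card g).mpr ⟨hsurj, by rw [hcK, alt_card.1]⟩
  have hker : ∀ x ∈ K, x ∈ N → x = 1 := fun x hx hxN => by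
    have e0 : g ⟨x, hx⟩ = g ⟨1, one_mem K⟩ := by
      show f (x : G ⧸ N) = f ((1 : G) : G ⧸ N)
      rw [(QuotientGroup.eq_one_iff x).mpr hxN, QuotientGroup.mk_one]
    exact congrArg Subtype.val (hbij.1 e0)
  refine ⟨hker, fun x => ?_, hcK⟩
  obtain ⟨⟨c, hc⟩, hgc⟩ := hsurj (π x)
  refine ⟨x * c⁻¹, ?_, c, hc, by group⟩
  have e0 : (c : G ⧸ N) = (x : G ⧸ N) := f.injective hgc
  rw [← QuotientGroup.eq_one_iff, QuotientGroup.mk_mul, QuotientGroup.mk_inv, e0, mul_inv_cancel]

/-- Two elements of a minimal normal subgroup span the fixed points. -/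
theorem fixI_eq (N : Subgroup G) {e w s : G} (h : Act N e w s)
    (hdec : ∀ g : G, ∃ n ∈ N, ∃ k ∈ closure ({e, w, s} : Set G), g = n * k)
    (hmin : ∀ M : Subgroup G, M.Normal → M ≤ N → M ≠ ⊥ → M = N)
    {i : G} (hi : i ∈ fixI N e) (hi1 : i ≠ 1) :
    i * (w * i * w⁻¹) = (w * i * w⁻¹) * i ∧ w * (w * i * w⁻¹) * w⁻¹ = i * (w * i * w⁻¹) ∧
    ∀ x ∈ fixI N e, x = 1 ∨ x = i ∨ x = w * i * w⁻¹ ∨ x = i * (w * i * w⁻¹) := by
  have hiN := (mem_fixI.mp hi).1
  set j := w * i * w⁻¹ with hj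
  have hjI : j ∈ fixI N e := h.w_stable hi
  have hjN := (mem_fixI.mp hjI).1
  have hww : w * w = w⁻¹ := h.gens.w_inv.symm
  have hwj : w * j * w⁻¹ = i * j := by
    have t := h.three h.gens.www h.wne hiN
    have hk : w⁻¹ * i * w ∈ N := by simpa using h.conj w⁻¹ hiN
    have e1 : w * j * w⁻¹ = w⁻¹ * i * w := by
      calc w * j * w⁻¹ = (w * w) * i * (w * w)⁻¹ := by rw [hj]; group
        _ = w⁻¹ * i * w := by rw [hww, inv_inv]
    rw [e1, eq_inv_of_mul_eq_one_right t, h.inv (mul_mem hiN hjN)]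
  refine ⟨h.comm hiN hjN, hwj, ?_⟩
  let J := fourSub i j (h.sq i hiN) (h.sq j hjN) (h.comm hiN hjN)
  have hJI : J ≤ fixI N e := fun x hx => by
    rcases mem_fourSub.mp hx with rfl | rfl | rfl | rfl
    exacts [one_mem _, hi, hjI, mul_mem hi hjI]
  have hJN : ∀ x ∈ J, x ∈ N := fun x hx => (mem_fixI.mp (hJI hx)).1
  have hJw : ∀ x ∈ J, w * x * w⁻¹ ∈ J := fun x hx => by
    refine mem_fourSub.mpr ?_
    rcases mem_fourSub.mp hx with rfl | rfl | rfl | rfl
    · exact Or.inl (by group)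
    · exact Or.inr (Or.inr (Or.inl rfl))
    · exact Or.inr (Or.inr (Or.inr hwj))
    · refine Or.inr (Or.inl ?_)
      rw [show w * (i * j) * w⁻¹ = (w * i * w⁻¹) * (w * j * w⁻¹) by group, ← hj, hwj, h.comm hiN hjN,
        ← mul_assoc, h.sq j hjN, one_mul]
  have hJw' : ∀ x ∈ J, w⁻¹ * x * w ∈ J := fun x hx => by
    have := hJw _ (hJw x hx)
    rwa [show w * (w * x * w⁻¹) * w⁻¹ = (w * w) * x * (w * w)⁻¹ by group, hww, inv_inv] at this
  have is' : s⁻¹ = s := inv_eq_of_mul_eq_one_left h.gens.ss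
  have ie : e⁻¹ = e := inv_eq_of_mul_eq_one_left h.gens.ee
  have hsN : ∀ x ∈ J, s * x * s ∈ N := fun x hx => by
    have := h.conj s (hJN x hx)
    rwa [is'] at this
  let M : Subgroup G :=
    { carrier := {x | ∃ a ∈ J, ∃ b ∈ J, x = a * (s * b * s)}
      one_mem' := ⟨1, one_mem J, 1, one_mem J, by rw [mul_one, h.gens.ss, mul_one]⟩
      mul_mem' := by
        rintro x y ⟨a, ha, b, hb, rfl⟩ ⟨a', ha', b', hb', rfl⟩
        refine ⟨a * a', mul_mem ha ha', b * b', mul_mem hb hb', ?_⟩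
        calc a * (s * b * s) * (a' * (s * b' * s)) = a * ((s * b * s) * a') * (s * b' * s) := by group
          _ = a * (a' * (s * b * s)) * (s * b' * s) := by rw [h.comm (hsN b hb) (hJN a' ha')]
          _ = a * a' * (s * b * (s * s) * b' * s) := by group
          _ = a * a' * (s * (b * b') * s) := by rw [h.gens.ss, mul_one]; group
      inv_mem' := by
        rintro x ⟨a, ha, b, hb, rfl⟩
        exact ⟨a, ha, b, hb, h.inv (mul_mem (hJN a ha) (hsN b hb))⟩ }
  have hMN : M ≤ N := by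
    rintro x ⟨a, ha, b, hb, rfl⟩
    exact mul_mem (hJN a ha) (hsN b hb)
  have hM1 : M ≠ ⊥ := fun e0 => hi1 (Subgroup.mem_bot.mp (e0 ▸ (show i ∈ M from
    ⟨i, mem_fourSub.mpr (Or.inr (Or.inl rfl)), 1, one_mem J, by rw [mul_one, h.gens.ss, mul_one]⟩)))
  have hK : ∀ k ∈ closure ({e, w, s} : Set G), k ∈ normalizer (M : Set G) := by
    have hone : ∀ k : G, (∀ x ∈ M, k * x * k⁻¹ ∈ M) → k ∈ normalizer (M : Set G) := fun k hk =>
      mem_normalizer_iff.mpr fun x => ⟨hk x, fun hx => by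
        have hp : ∀ n : ℕ, ∀ y ∈ M, k ^ n * y * (k ^ n)⁻¹ ∈ M := fun n => by
          induction n with
          | zero => simp
          | succ n ih =>
            intro y hy
            rw [pow_succ', show k * k ^ n * y * (k * k ^ n)⁻¹ = k * (k ^ n * y * (k ^ n)⁻¹) * k⁻¹ by group]
            exact hk _ (ih y hy)
        have := hp (orderOf k - 1) _ hx
        rw [show k ^ (orderOf k - 1) = k⁻¹ from eq_inv_of_mul_eq_one_left (by
          rw [← pow_succ, Nat.sub_add_cancel (orderOf_pos k), pow_orderOf_eq_one])] at this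
        simpa [mul_assoc] using this⟩
    refine fun k hk => (closure_le _).mpr ?_ hk
    rintro g (rfl | rfl | rfl) <;> refine hone _ ?_ <;> rintro x ⟨a, ha, b, hb, rfl⟩
    · refine ⟨a * b, mul_mem ha hb, b, hb, ?_⟩
      have hae : g * a * g = a := by
        rw [← (mem_fixI.mp (hJI ha)).2, mul_assoc, h.gens.ee, mul_one]
      calc g * (a * (s * b * s)) * g⁻¹ = g * a * (g * g) * (s * b * s) * g := by rw [h.gens.ee, ie]; group
        _ = (g * a * g) * (g * (s * b * s) * g) := by group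
        _ = _ := by rw [hae, h.e_act (hJI hb)]; simp only [mul_assoc]
    · refine ⟨g * a * g⁻¹, hJw a ha, g⁻¹ * b * g, hJw' b hb, ?_⟩
      calc g * (a * (s * b * s)) * g⁻¹ = (g * a * g⁻¹) * (g * (s * b * s) * g⁻¹) := by group
        _ = _ := by rw [h.w_act b]
    · refine ⟨b, hb, a, ha, ?_⟩
      calc g * (a * (g * b * g)) * g⁻¹ = (g * a * g) * b := by group
        _ = b * (g * a * g) := h.comm (hsN a ha) (hJN b hb)
  have hMnormal : M.Normal := ⟨fun x hx g => by
    obtain ⟨n, hn, k, hk, rfl⟩ := hdec g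
    have hy := (mem_normalizer_iff.mp (hK k hk) x).mp hx
    rw [show n * k * x * (n * k)⁻¹ = n * (k * x * k⁻¹) * n⁻¹ by group, h.comm hn (hMN hy), mul_inv_cancel_right]
    exact hy⟩
  have hMeq := hmin M hMnormal hMN hM1
  intro x hx
  obtain ⟨a, ha, b, hb, rfl⟩ : x ∈ M := hMeq ▸ (mem_fixI.mp hx).1
  have hb1 : s * b * s ∈ fixI N e := by
    have := mul_mem (inv_mem (hJI ha)) hx
    rwa [inv_mul_cancel_left] at this
  rw [h.s_disjoint (hJI hb) hb1, mul_one, h.gens.ss, mul_one]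
  exact mem_fourSub.mp ha

/-- The affine matrices. -/
def affMat {F : Type*} [CommRing F] (A : SpecialLinearGroup (Fin 2) F) (v : Fin 2 → F) :
    SpecialLinearGroup (Fin 3) F :=
  ⟨!![A.1 0 0, A.1 0 1, v 0; A.1 1 0, A.1 1 1, v 1; 0, 0, 1], by
    have h := A.2
    rw [Matrix.det_fin_two] at h
    rw [Matrix.det_fin_three]
    simpa using h⟩

theorem affMat_mul {F : Type*} [CommRing F] (A B : SpecialLinearGroup (Fin 2) F) (v u : Fin 2 → F) :
    affMat A v * affMat B u = affMat (A * B) (v + A.1 *ᵥ u) := by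
  apply Subtype.ext
  show (affMat A v).1 * (affMat B u).1 = _
  ext i j
  fin_cases i <;> fin_cases j <;>
    simp [affMat, Matrix.SpecialLinearGroup.coe_mul, Matrix.mul_apply, Fin.sum_univ_three, Fin.sum_univ_two, Matrix.mulVec, dotProduct] <;> ring

theorem affMat_one {F : Type*} [CommRing F] : affMat (1 : SpecialLinearGroup (Fin 2) F) 0 = 1 := by
  apply Subtype.ext
  ext i j
  fin_cases i <;> fin_cases j <;> simp [affMat]

theorem affMat_inj {F : Type*} [CommRing F] {A B : SpecialLinearGroup (Fin 2) F} {v u : Fin 2 → F}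
    (h : affMat A v = affMat B u) : A = B ∧ v = u := by
  have e : ∀ i j, (affMat A v).1 i j = (affMat B u).1 i j := fun i j => by rw [h]
  refine ⟨Subtype.ext ?_, funext fun i => ?_⟩
  · ext i j
    fin_cases i <;> fin_cases j
    exacts [e 0 0, e 0 1, e 1 0, e 1 1]
  · fin_cases i
    exacts [e 0 2, e 1 2]

/-- The identification. -/
theorem affine_of_minimal (h : Ord5 G) (N : Subgroup G) [hNn : N.Normal] (hN : IsPGroup 2 N) (hN1 : N ≠ ⊥)
    (f : G ⧸ N ≃* alternatingGroup (Fin 5))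
    (hmin : ∀ M : Subgroup G, M.Normal → M ≤ N → M ≠ ⊥ → M = N) :
    ∃ (F : Type) (_ : Field F) (_ : Fintype F), Fintype.card F = 4 ∧
      Nonempty (G ≃* ↥(Subgroup.closure {M : Matrix.SpecialLinearGroup (Fin 3) F |
          (M : Matrix (Fin 3) (Fin 3) F) 2 0 = 0 ∧ (M : Matrix (Fin 3) (Fin 3) F) 2 1 = 0 ∧
            (M : Matrix (Fin 3) (Fin 3) F) 2 2 = 1})) := by
  classical
  obtain ⟨e, w, s, hA, hker, hdec, hcK⟩ := exists_gens h N hN f
  set K := closure ({e, w, s} : Set G) with hK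
  obtain ⟨i, hi, hi1⟩ : ∃ i ∈ fixI N e, i ≠ 1 := by
    by_contra hc
    push Not at hc
    refine hN1 (Subgroup.card_eq_one.mp ?_)
    rw [← hA.card, (Subgroup.eq_bot_iff_forall _).mpr hc, Subgroup.card_bot, one_pow]
  obtain ⟨hij, hwj, hI⟩ := fixI_eq N hA hdec hmin hi hi1
  set j := w * i * w⁻¹ with hj
  have hiN := (mem_fixI.mp hi).1
  have hjI : j ∈ fixI N e := hA.w_stable hi
  have hjN := (mem_fixI.mp hjI).1
  have hj1 : j ≠ 1 := fun e0 => hi1 (by rw [hj, mul_inv_eq_one, mul_eq_left] at e0; exact e0)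
  have hij1 : i * j ≠ 1 := fun e0 => hj1 (by
    rwa [e0, mul_inv_eq_one, mul_eq_left] at hwj)
  have hine : i ≠ j := fun e0 => hij1 (by rw [← e0, hA.sq i hiN])
  -- the field
  let F : Type := GaloisField 2 2
  letI : Fintype F := Fintype.ofFinite F
  have hF : Fintype.card F = 4 := by
    rw [← Nat.card_eq_fintype_card, GaloisField.card 2 2 (by norm_num)]; norm_num
  haveI := Cfsg.Agent.Recog.charTwo_of_card_four hF
  have h2 : (2 : F) = 0 := by exact_mod_cast CharP.cast_eq_zero F 2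
  obtain ⟨ω, hω⟩ : ∃ x : F, x ^ 2 + x + 1 = 0 := by
    obtain ⟨x, -, hx⟩ := Finset.exists_mem_notMem_of_card_lt_card
      (s := ({0, 1} : Finset F)) (t := Finset.univ)
      (lt_of_le_of_lt Finset.card_le_two (by rw [Finset.card_univ, hF]; norm_num))
    simp only [Finset.mem_insert, Finset.mem_singleton, not_or] at hx
    refine ⟨x, (mul_eq_zero.mp (show (x - 1) * (x ^ 2 + x + 1) = 0 from ?_)).resolve_left (sub_ne_zero.mpr hx.2)⟩
    have h3 := FiniteField.pow_card_sub_one_eq_one x hx.1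
    rw [hF] at h3
    linear_combination h3
  have hw0 : ω ≠ 0 := fun e0 => by rw [e0] at hω; simp at hω
  have hw1 : ω ≠ 1 := fun e0 => one_ne_zero (α := F) (by rw [e0] at hω; linear_combination hω - h2)
  have hwp : ω + 1 ≠ 0 := fun e0 => hw1 (by linear_combination e0 - h2)
  have hwp1 : ω + 1 ≠ 1 := fun e0 => hw0 (by linear_combination e0)
  have cases : ∀ x : F, x = 0 ∨ x = 1 ∨ x = ω ∨ x = ω + 1 := by
    intro x
    have h4 := FiniteField.pow_card x
    rw [hF] at h4
    have : x * (x - 1) * (x - ω) * (x - (ω + 1)) = 0 := by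
      linear_combination h4 + (x * x - x) * hω + (-(ω + 1) * x ^ 3 + ω * x ^ 2 + x) * h2
    simp only [mul_eq_zero, sub_eq_zero] at this
    tauto
  let ι : F → G := fun x => if x = 0 then 1 else if x = 1 then i else if x = ω then j else i * j
  have ι0 : ι 0 = 1 := if_pos rfl
  have ι1 : ι 1 = i := by simp only [ι, one_ne_zero, if_false, if_true]
  have ιω : ι ω = j := by simp only [ι, hw0, hw1, if_false, if_true]
  have ιp : ι (ω + 1) = i * j := by
    simp only [ι, hwp, hwp1, if_false, show (ω + 1 : F) ≠ ω from fun e0 => one_ne_zero (α := F) (by linear_combination e0)]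
  have aa : (1 : F) + 1 = 0 := by linear_combination h2
  have ωω : ω + ω = 0 := by linear_combination ω * h2
  have e1 : (1 : F) + (ω + 1) = ω := by linear_combination h2
  have e2 : ω + (ω + 1) = 1 := by linear_combination ω * h2
  have e3 : (ω + 1) + (ω + 1) = 0 := by linear_combination (ω + 1) * h2
  have ι_add : ∀ x y, ι (x + y) = ι x * ι y := by
    have q1 : i * (i * j) = j := by rw [← mul_assoc, hA.sq i hiN, one_mul]
    have q2 : j * (i * j) = i := by rw [hij, ← mul_assoc, hA.sq j hjN, one_mul]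
    intro x y
    rcases cases x with hx | hx | hx | hx <;> rcases cases y with hy | hy | hy | hy <;>
      rw [hx, hy] <;>
      simp only [zero_add, add_zero, ι0, ι1, ιω, ιp, one_mul, mul_one, aa, ωω, e1, e2, e3,
        add_comm (ω + 1) (1 : F), add_comm (ω + 1) ω, add_comm (1 : F) ω,
        hA.sq i hiN, hA.sq j hjN, hA.sq _ (mul_mem hiN hjN), q1, q2,
        hA.comm (mul_mem hiN hjN) hiN, hA.comm (mul_mem hiN hjN) hjN, hA.comm hjN hiN]
  have ιI : ∀ x, ι x ∈ fixI N e := fun x => by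
    rcases cases x with hx | hx | hx | hx <;> rw [hx] <;> simp only [ι0, ι1, ιω, ιp]
    exacts [one_mem _, hi, hjI, mul_mem hi hjI]
  have ιinj : Function.Injective ι := by
    have n1 : i * j ≠ i := fun e0 => hj1 (mul_eq_left.mp e0)
    have n2 : i * j ≠ j := fun e0 => hi1 (mul_eq_right.mp e0)
    intro x y
    rcases cases x with hx | hx | hx | hx <;> rcases cases y with hy | hy | hy | hy <;>
      rw [hx, hy] <;>
      simp only [ι0, ι1, ιω, ιp, hi1, hj1, hij1, hine, n1, n2, hi1.symm, hj1.symm, hij1.symm, hine.symm,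
        n1.symm, n2.symm, IsEmpty.forall_iff, imp_self]
  have ιsurj : ∀ x ∈ fixI N e, ∃ a, ι a = x := fun x hx => by
    rcases hI x hx with rfl | rfl | rfl | rfl
    exacts [⟨0, ι0⟩, ⟨1, ι1⟩, ⟨ω, ιω⟩, ⟨ω + 1, ιp⟩]
  have ιw : ∀ x, w * ι x * w⁻¹ = ι (ω * x) := by
    have m1 : ω * ω = ω + 1 := by linear_combination hω - (ω + 1) * h2
    have m2 : ω * (ω + 1) = 1 := by linear_combination hω - h2
    intro x
    rcases cases x with hx | hx | hx | hx <;> rw [hx]
    · rw [mul_zero, ι0]; group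
    · rw [mul_one, ι1, ιω]
    · rw [m1, ιω, ιp, hwj]
    · rw [m2, ιp, ι1, show w * (i * j) * w⁻¹ = (w * i * w⁻¹) * (w * j * w⁻¹) by group, ← hj, hwj, hij,
        ← mul_assoc, hA.sq j hjN, one_mul]
  have m3 : ω * (ω * ω) = 1 := by linear_combination (ω - 1) * hω
  have ιw' : ∀ x, w⁻¹ * ι x * w = ι (ω * ω * x) := fun x => by
    conv_lhs => rw [← one_mul x, ← m3, mul_assoc ω, ← ιw]
    group
  -- coordinates
  have is' : s⁻¹ = s := inv_eq_of_mul_eq_one_left hA.gens.ss
  have hsN : ∀ x, s * ι x * s ∈ N := fun x => by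
    have := hA.conj s (mem_fixI.mp (ιI x)).1
    rwa [is'] at this
  let Φ : (Fin 2 → F) → G := fun v => ι (v 0) * (s * ι (v 1) * s)
  have Φmem : ∀ v, Φ v ∈ N := fun v => mul_mem (mem_fixI.mp (ιI _)).1 (hsN _)
  have Φadd : ∀ v u, Φ (v + u) = Φ v * Φ u := fun v u => by
    show ι (v 0 + u 0) * (s * ι (v 1 + u 1) * s) = ι (v 0) * (s * ι (v 1) * s) * (ι (u 0) * (s * ι (u 1) * s))
    rw [ι_add, ι_add]
    calc ι (v 0) * ι (u 0) * (s * (ι (v 1) * ι (u 1)) * s)
        = ι (v 0) * ι (u 0) * (s * ι (v 1) * (s * s) * ι (u 1) * s) := by rw [hA.gens.ss]; group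
      _ = ι (v 0) * (ι (u 0) * (s * ι (v 1) * s)) * (s * ι (u 1) * s) := by group
      _ = ι (v 0) * ((s * ι (v 1) * s) * ι (u 0)) * (s * ι (u 1) * s) := by
        rw [hA.comm (mem_fixI.mp (ιI _)).1 (hsN _)]
      _ = _ := by group
  have Φinj : Function.Injective Φ := fun v u hvu => by
    have := hA.decomp.1 (a₁ := (⟨_, ιI (v 0)⟩, ⟨_, ιI (v 1)⟩)) (a₂ := (⟨_, ιI (u 0)⟩, ⟨_, ιI (u 1)⟩)) hvu
    simp only [Prod.mk.injEq, Subtype.mk.injEq] at this
    funext k
    fin_cases k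
    exacts [ιinj this.1, ιinj this.2]
  have Φsurj : ∀ n ∈ N, ∃ v, Φ v = n := fun n hn => by
    obtain ⟨a, b, ha, hb, rfl⟩ := hA.decomp.2 n hn
    obtain ⟨x, rfl⟩ := ιsurj a ha
    obtain ⟨y, rfl⟩ := ιsurj b hb
    exact ⟨![x, y], rfl⟩
  -- the matrices
  let SL := SpecialLinearGroup (Fin 2) F
  have hex : ∀ k ∈ K, ∃ A : SL, ∀ v, k * Φ v * k⁻¹ = Φ (A.1 *ᵥ v) := by
    intro k hk
    induction hk using Subgroup.closure_induction with
    | mem x hx =>
      rcases hx with rfl | rfl | rfl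
      · refine ⟨⟨!![1, 1; 0, 1], by simp⟩, fun v => ?_⟩
        have hfix : x * ι (v 0) * x = ι (v 0) := by
          rw [← (mem_fixI.mp (ιI _)).2, mul_assoc, hA.gens.ee, mul_one]
        calc x * Φ v * x⁻¹ = x * ι (v 0) * (x * x) * (s * ι (v 1) * s) * x := by
              rw [hA.gens.ee, inv_eq_of_mul_eq_one_left hA.gens.ee, mul_one]
              simp only [Φ, mul_assoc]
          _ = (x * ι (v 0) * x) * (x * (s * ι (v 1) * s) * x) := by group
          _ = ι (v 0 + v 1) * (s * ι (v 1) * s) := by rw [hfix, hA.e_act (ιI _), ι_add]; simp only [mul_assoc]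
          _ = _ := by simp [Φ, Matrix.mulVec, dotProduct, Fin.sum_univ_two]
      · refine ⟨⟨!![ω, 0; 0, ω * ω], by simpa using m3⟩, fun v => ?_⟩
        calc x * Φ v * x⁻¹ = (x * ι (v 0) * x⁻¹) * (x * (s * ι (v 1) * s) * x⁻¹) := by simp only [Φ]; group
          _ = ι (ω * v 0) * (s * ι (ω * ω * v 1) * s) := by rw [ιw, hA.w_act, ιw']
          _ = _ := by simp [Φ, Matrix.mulVec, dotProduct, Fin.sum_univ_two]
      · refine ⟨⟨!![0, 1; 1, 0], by simp [Matrix.det_fin_two]; linear_combination -h2⟩, fun v => ?_⟩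
        calc x * Φ v * x⁻¹ = (x * ι (v 0) * x) * ι (v 1) := by simp only [Φ]; group
          _ = ι (v 1) * (x * ι (v 0) * x) := hA.comm (hsN _) (mem_fixI.mp (ιI _)).1
          _ = _ := by simp [Φ, Matrix.mulVec, dotProduct, Fin.sum_univ_two]
    | one => exact ⟨1, fun v => by simp⟩
    | mul x y _ _ hx hy =>
      obtain ⟨A, hA'⟩ := hx
      obtain ⟨B, hB'⟩ := hy
      refine ⟨A * B, fun v => ?_⟩
      rw [show x * y * Φ v * (x * y)⁻¹ = x * (y * Φ v * y⁻¹) * x⁻¹ by group, hB', hA', Matrix.SpecialLinearGroup.coe_mul,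
        Matrix.mulVec_mulVec]
    | inv x _ hx =>
      obtain ⟨A, hA'⟩ := hx
      refine ⟨A⁻¹, fun v => ?_⟩
      have hv : A.1 *ᵥ ((A⁻¹ : SL).1 *ᵥ v) = v := by
        rw [Matrix.mulVec_mulVec, ← Matrix.SpecialLinearGroup.coe_mul, mul_inv_cancel,
          Matrix.SpecialLinearGroup.coe_one, Matrix.one_mulVec]
      conv_lhs => rw [← hv, ← hA']
      group
  choose ρ hρ using hex
  have uniq : ∀ (k : G) (A B : SL), (∀ v, k * Φ v * k⁻¹ = Φ (A.1 *ᵥ v)) →
      (∀ v, k * Φ v * k⁻¹ = Φ (B.1 *ᵥ v)) → A = B := fun k A B ha hb => by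
    refine Subtype.ext (Matrix.ext fun r c => ?_)
    have := congrFun (Φinj ((ha (Pi.single c 1)).symm.trans (hb (Pi.single c 1)))) r
    simpa [Matrix.mulVec, dotProduct, Pi.single_apply] using this
  -- splitting
  have huniq : ∀ n n' k k', n ∈ N → n' ∈ N → k ∈ K → k' ∈ K → n * k = n' * k' → n = n' ∧ k = k' := by
    intro n n' k k' hn hn' hk hk' heq
    have h1 : k * k'⁻¹ = n⁻¹ * n' := by
      calc k * k'⁻¹ = n⁻¹ * (n * k) * k'⁻¹ := by group
        _ = n⁻¹ * n' := by rw [heq]; group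
    have h2' := hker _ (mul_mem hk (inv_mem hk')) (h1 ▸ mul_mem (inv_mem hn) hn')
    rw [mul_inv_eq_one] at h2'
    subst h2'
    exact ⟨mul_right_cancel heq, rfl⟩
  choose nn hnn kk hkk hnk using hdec
  choose vv hvv using fun g : G => Φsurj (nn g) (hnn g)
  let Ψ : G → SpecialLinearGroup (Fin 3) F := fun g => affMat (ρ (kk g) (hkk g)) (vv g)
  have hmk : ∀ g v k (hk : k ∈ K), g = Φ v * k → Ψ g = affMat (ρ k hk) v := by
    intro g v k hk hg
    obtain ⟨q1, q2⟩ := huniq _ _ _ _ (hnn g) (Φmem v) (hkk g) hk ((hnk g).symm.trans hg)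
    have e0 : vv g = v := Φinj ((hvv g).trans q1)
    show affMat (ρ (kk g) (hkk g)) (vv g) = _
    congr 1
    simp only [q2]
  have hρmul : ∀ k k' (hk : k ∈ K) (hk' : k' ∈ K), ρ (k * k') (mul_mem hk hk') = ρ k hk * ρ k' hk' :=
    fun k k' hk hk' => uniq (k * k') _ _ (hρ _ _) fun v => by
      rw [show k * k' * Φ v * (k * k')⁻¹ = k * (k' * Φ v * k'⁻¹) * k⁻¹ by group, hρ k' hk', hρ k hk,
        Matrix.SpecialLinearGroup.coe_mul, Matrix.mulVec_mulVec]
  let Ψh : G →* SpecialLinearGroup (Fin 3) F := MonoidHom.mk' Ψ fun g g' => by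
    rw [hmk (g * g') (vv g + (ρ (kk g) (hkk g)).1 *ᵥ vv g') (kk g * kk g') (mul_mem (hkk g) (hkk g')) ?_]
    · show _ = affMat _ _ * affMat _ _
      rw [affMat_mul, hρmul]
    · rw [Φadd, ← hρ, hvv, hvv]
      conv_lhs => rw [hnk g, hnk g']
      group
  have ρinj : ∀ k (hk : k ∈ K), ρ k hk = 1 → k = 1 := by
    intro k hk hk1
    have hc : k ∈ K ⊓ centralizer (N : Set G) := by
      refine ⟨hk, mem_centralizer_iff.mpr fun n hn => ?_⟩
      obtain ⟨v, rfl⟩ := Φsurj n hn
      have := hρ k hk v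
      rw [hk1, Matrix.SpecialLinearGroup.coe_one, Matrix.one_mulVec] at this
      exact (mul_inv_eq_iff_eq_mul.mp this).symm
    let π : G →* alternatingGroup (Fin 5) := f.toMonoidHom.comp (QuotientGroup.mk' N)
    set L := (K ⊓ centralizer (N : Set G)).map π with hL
    have hπN : ∀ n ∈ N, π n = 1 := fun n hn => by
      show f (n : G ⧸ N) = 1
      rw [(QuotientGroup.eq_one_iff n).mpr hn, map_one]
    have hLn : L.Normal := ⟨by
      rintro - ⟨l, hl, rfl⟩ a
      obtain ⟨x, hx⟩ : ∃ x : G, π x = a := (f.surjective.comp (QuotientGroup.mk'_surjective N)) a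
      have hxk : x = nn x * kk x := hnk x
      refine ⟨kk x * l * (kk x)⁻¹, Subgroup.mem_inf.mpr ⟨mul_mem (mul_mem (hkk x) (Subgroup.mem_inf.mp hl).1) (inv_mem (hkk x)), ?_⟩, ?_⟩
      · refine mem_centralizer_iff.mpr fun n hn => ?_
        have hn' : (kk x)⁻¹ * n * kk x ∈ N := by simpa using hA.conj (kk x)⁻¹ hn
        have hc := mem_centralizer_iff.mp (Subgroup.mem_inf.mp hl).2 _ hn'
        calc n * (kk x * l * (kk x)⁻¹) = kk x * (((kk x)⁻¹ * n * kk x) * l) * (kk x)⁻¹ := by group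
          _ = kk x * (l * ((kk x)⁻¹ * n * kk x)) * (kk x)⁻¹ := by rw [hc]
          _ = kk x * l * (kk x)⁻¹ * n := by group
      · rw [← hx]
        conv_rhs => rw [hxk]
        simp only [map_mul, map_inv, hπN _ (hnn x), one_mul]⟩
    have hi4 : i ^ 4 = 1 := by
      rw [show (4 : ℕ) = 2 * 2 from rfl, pow_mul, (pow_two i).trans (hA.sq i hiN), one_pow]
    have h2L : ∀ a ∈ L, a ^ 4 = 1 := by
      rintro - ⟨l, hl, rfl⟩
      have hli : l ∈ centralizer ({i} : Set G) :=
        mem_centralizer_singleton_iff.mpr (mem_centralizer_iff.mp (Subgroup.mem_inf.mp hl).2 i hiN).symm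
      haveI := Fact.mk Nat.prime_two
      rw [← map_pow, h.pow_four (h.centralizer_two hi4 hi1) hli, map_one]
    haveI := hLn
    rcases (alternatingGroup.isSimpleGroup_five).eq_bot_or_eq_top_of_normal L hLn with e0 | e0
    · have : π k ∈ L := ⟨k, hc, rfl⟩
      rw [e0, Subgroup.mem_bot] at this
      exact hker k hk ((QuotientGroup.eq_one_iff k).mp (f.injective (this.trans (map_one f).symm)))
    · exfalso
      obtain ⟨a, ha⟩ := Cfsg.Agent.Recog.a5_exists_order (k := 3) (Or.inr (Or.inr (Or.inl rfl)))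
      have := orderOf_dvd_of_pow_eq_one (h2L a (e0 ▸ Subgroup.mem_top a))
      rw [ha] at this
      norm_num at this
  have Ψinj : Function.Injective Ψh := by
    refine (injective_iff_map_eq_one Ψh).mpr fun g hg => ?_
    obtain ⟨q1, q2⟩ := affMat_inj ((show affMat (ρ (kk g) (hkk g)) (vv g) = _ from hg).trans affMat_one.symm)
    rw [hnk g, ρinj _ _ q1, mul_one, ← hvv g, q2]
    show ι 0 * (s * ι 0 * s) = 1
    rw [ι0, mul_one, hA.gens.ss, mul_one]
  -- the target
  set S := {M : SpecialLinearGroup (Fin 3) F |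
    (M : Matrix (Fin 3) (Fin 3) F) 2 0 = 0 ∧ (M : Matrix (Fin 3) (Fin 3) F) 2 1 = 0 ∧
      (M : Matrix (Fin 3) (Fin 3) F) 2 2 = 1} with hS
  let T : Subgroup (SpecialLinearGroup (Fin 3) F) :=
    { carrier := {M | ∃ A v, M = affMat A v}
      one_mem' := ⟨1, 0, affMat_one.symm⟩
      mul_mem' := by
        rintro x y ⟨A, v, rfl⟩ ⟨B, u, rfl⟩
        exact ⟨_, _, affMat_mul A B v u⟩
      inv_mem' := by
        rintro x ⟨A, v, rfl⟩
        refine ⟨A⁻¹, -((A⁻¹ : SL).1 *ᵥ v), inv_eq_of_mul_eq_one_left ?_⟩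
        rw [affMat_mul, inv_mul_cancel, neg_add_cancel, affMat_one] }
  have hST : closure S ≤ T := (closure_le T).mpr fun M hM => by
    obtain ⟨m0, m1, m2⟩ := hM
    have hd := M.2
    rw [Matrix.det_fin_three, m0, m1, m2] at hd
    refine ⟨⟨!![M.1 0 0, M.1 0 1; M.1 1 0, M.1 1 1], by rw [Matrix.det_fin_two]; simpa using hd⟩,
      ![M.1 0 2, M.1 1 2], Subtype.ext ?_⟩
    ext r c
    fin_cases r <;> fin_cases c <;> simp [affMat, m0, m1, m2]
  have hTS : ∀ A v, affMat A v ∈ closure S := fun A v => subset_closure (show affMat A v ∈ S from ⟨rfl, rfl, rfl⟩)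
  let Φ' : G →* closure S := Ψh.codRestrict (closure S) fun g => hTS _ _
  have hcard : Nat.card (closure S) ≤ Nat.card G := by
    have h1 : Nat.card (closure S) ≤ Nat.card T :=
      Nat.card_le_card_of_injective _ (Subgroup.inclusion_injective hST)
    have h2' : Nat.card T ≤ Nat.card (SL × (Fin 2 → F)) := by
      refine Nat.card_le_card_of_surjective (fun p => ⟨affMat p.1 p.2, p.1, p.2, rfl⟩) ?_
      rintro ⟨M, A, v, rfl⟩
      exact ⟨(A, v), rfl⟩
    have h3 : Nat.card SL = 60 := by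
      show Nat.card (SpecialLinearGroup (Fin 2) F) = 60
      rw [Cfsg.Agent.Fus.PSLTwo.natCard_SL_two, hF]
    have h4 : Nat.card ((Fin 2 → F) × K) ≤ Nat.card G := by
      refine Nat.card_le_card_of_injective (fun p => Φ p.1 * p.2) ?_
      rintro ⟨v, k⟩ ⟨v', k'⟩ hp
      obtain ⟨q1, q2⟩ := huniq _ _ _ _ (Φmem v) (Φmem v') k.2 k'.2 hp
      rw [Φinj q1, Subtype.ext q2]
    rw [Nat.card_prod, h3, Nat.mul_comm] at h2'
    rw [Nat.card_prod, hcK] at h4
    omega
  have hinj' : Function.Injective Φ' := fun a b hab => Ψinj (congrArg Subtype.val hab)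
  refine ⟨F, inferInstance, inferInstance, hF, ⟨MulEquiv.ofBijective Φ'
    ((Nat.bijective_iff_injective_and_card Φ').mpr ⟨hinj',
      le_antisymm (Nat.card_le_card_of_injective Φ' hinj') hcard⟩)⟩⟩

/-- A proper quotient by a normal subgroup strictly below the 2-core keeps all element orders. -/
theorem quot_spectrum (h : Ord5 G) (hr : Set.range (orderOf : G → ℕ) = {1, 2, 3, 4, 5}) (N : Subgroup G)
    [hNn : N.Normal] (hN : IsPGroup 2 N) (f : G ⧸ N ≃* alternatingGroup (Fin 5)) (M : Subgroup G) [hMn : M.Normal]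
    (hMN : M ≤ N) (hne : M ≠ N) :
    Set.range (orderOf : ((⊤ : Subgroup G) ⧸ M.comap (⊤ : Subgroup G).subtype) → ℕ) = {1, 2, 3, 4, 5} := by
  let φ : ((⊤ : Subgroup G) ⧸ M.comap (⊤ : Subgroup G).subtype) ≃* G ⧸ M :=
    QuotientGroup.congr _ _ Subgroup.topEquiv (Subgroup.map_comap_eq_self_of_surjective
      (show Function.Surjective (⊤ : Subgroup G).subtype from fun x => ⟨⟨x, Subgroup.mem_top x⟩, rfl⟩) M)
  suffices hq : Set.range (orderOf : G ⧸ M → ℕ) = {1, 2, 3, 4, 5} by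
    rw [← hq]
    ext k
    exact ⟨fun ⟨x, hx⟩ => ⟨φ x, by rw [φ.orderOf_eq, hx]⟩, fun ⟨x, hx⟩ => ⟨φ.symm x, by rw [φ.symm.orderOf_eq, hx]⟩⟩
  ext k
  refine ⟨?_, fun hk => ?_⟩
  · rintro ⟨x, rfl⟩
    have h1 := orderOf_pos x
    have h2 := h.quotient M x
    simp only [Set.mem_insert_iff, Set.mem_singleton_iff]
    omega
  simp only [Set.mem_insert_iff, Set.mem_singleton_iff] at hk
  let ψ : G ⧸ M →* alternatingGroup (Fin 5) :=
    f.toMonoidHom.comp (QuotientGroup.map M N (MonoidHom.id G) hMN)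
  have hψ : ∀ g : G, ψ (g : G ⧸ M) = f (g : G ⧸ N) := fun g => rfl
  have lift : ∀ p : ℕ, p.Prime → p = 2 ∨ p = 3 ∨ p = 5 → ∃ y : G ⧸ M, orderOf y = p := by
    intro p hp hp'
    obtain ⟨a, ha⟩ := Cfsg.Agent.Recog.a5_exists_order (k := p) (Or.inr hp')
    obtain ⟨b, hb⟩ := f.surjective a
    obtain ⟨g, rfl⟩ := QuotientGroup.mk_surjective b
    have hd : p ∣ orderOf (g : G ⧸ M) := by
      have := orderOf_map_dvd ψ (g : G ⧸ M)
      rwa [hψ, hb, ha] at this
    exact ⟨_, orderOf_pow_orderOf_div (orderOf_pos _).ne' hd⟩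
  rcases hk with rfl | rfl | rfl | rfl | rfl
  · exact ⟨1, orderOf_one⟩
  · exact lift 2 Nat.prime_two (Or.inl rfl)
  · exact lift 3 Nat.prime_three (Or.inr (Or.inl rfl))
  · obtain ⟨e, w, s, hA, -, -, -⟩ := exists_gens h N hN f
    haveI := Fact.mk Nat.prime_two
    have hee : ((e : G ⧸ M)) * e = 1 := by rw [← QuotientGroup.mk_mul, hA.gens.ee, QuotientGroup.mk_one]
    have hV : IsPGroup 2 (N.map (QuotientGroup.mk' M)) := hN.map _
    obtain ⟨k, t, hkt⟩ : ∃ k t : G, InvPair 3 k t ∧ t ∉ N := ⟨w, s,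
      ⟨Nat.prime_three, by norm_num, hA.gens.www, hA.wne, hA.gens.ss, hA.gens.sw⟩, fun hs => hA.wne (by
        have hw : w ∈ N := by
          have h1 : s * (w * s⁻¹ * w⁻¹) ∈ N := mul_mem hs (hA.conj w (inv_mem hs))
          rw [inv_eq_of_mul_eq_one_left hA.gens.ss,
            show s * (w * s * w⁻¹) = s * w * s * w⁻¹ by group, hA.gens.sw, ← _root_.mul_inv_rev, ← pow_two] at h1
          have h2 : w ^ 2 ∈ N := inv_mem_iff.mp h1
          have h3 : w ^ 3 * (w ^ 2)⁻¹ ∈ N := mul_mem (hA.gens.www ▸ one_mem N) (inv_mem h2)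
          simpa [pow_succ] using h3
        exact h.fix_eq_one Nat.prime_three (by norm_num) hA.gens.www hA.wne
          (h.pow_four hN hw) (Commute.refl w))⟩
    obtain ⟨hp, htN⟩ := hkt
    set V := N.map (QuotientGroup.mk' M) with hVdef
    have hVn : V.Normal := hNn.map _ (QuotientGroup.mk'_surjective M)
    have hkV : (k : G ⧸ M) ≠ 1 := fun e0 => by
      have hk : k ∈ N := hMN ((QuotientGroup.eq_one_iff k).mp e0)
      exact hp.ne (h.fix_eq_one hp.prime hp.odd hp.pow hp.ne (h.pow_four hN hk) (Commute.refl k))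
    have hq : InvPair 3 (k : G ⧸ M) (t : G ⧸ M) := hp.map (QuotientGroup.mk' M) hkV
    have hnn : ∀ y : G ⧸ M, y ∈ normalizer (V : Set (G ⧸ M)) := fun y => by
      rw [Subgroup.normalizer_eq_top]; exact Subgroup.mem_top y
    obtain ⟨hsq, -, hcard, -⟩ := elem_of_invPair (h.quotient M) hV hq (hnn _) (hnn _)
    obtain ⟨d, hdV, hdt⟩ : ∃ d ∈ V, d * (t : G ⧸ M) ≠ t * d := by
      by_contra hc
      push Not at hc
      have hle : V ≤ centralizer ({(t : G ⧸ M)} : Set (G ⧸ M)) := fun y hy =>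
        mem_centralizer_singleton_iff.mpr (hc y hy)
      rw [inf_eq_left.mpr hle] at hcard
      have h1 : Nat.card V = 1 := by nlinarith [Nat.card_pos (α := V)]
      refine hne (le_antisymm hMN fun n hn => ?_)
      have h2 : QuotientGroup.mk' M n ∈ V := Subgroup.mem_map_of_mem _ hn
      rw [Subgroup.card_eq_one.mp h1, Subgroup.mem_bot] at h2
      exact (QuotientGroup.eq_one_iff n).mp h2
    refine ⟨(t : G ⧸ M) * d, orderOf_eq_prime_pow (p := 2) (n := 1) ?_ ?_⟩
    · intro h2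
      rw [pow_one, pow_two] at h2
      apply hdt
      calc d * (t : G ⧸ M) = d⁻¹ * (t : G ⧸ M)⁻¹ := by
            rw [inv_eq_of_mul_eq_one_left (hsq d hdV), inv_eq_of_mul_eq_one_left hq.sq]
        _ = ((t : G ⧸ M) * d)⁻¹ := (_root_.mul_inv_rev _ _).symm
        _ = (t : G ⧸ M) * d := inv_eq_of_mul_eq_one_left h2
    · exact (h.quotient M).pow_four ((IsPGroup.of_card (n := 1) (by
        rw [Nat.card_zpowers, orderOf_eq_two hq.sq hq.t_ne, pow_one]) :
        IsPGroup 2 (zpowers (t : G ⧸ M))).to_sup_of_normal_right' hV (zpowers_le.mpr (hnn _)))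
        (mul_mem (mem_sup_left (mem_zpowers _)) (mem_sup_right hdV))
  · exact lift 5 Nat.prime_five (Or.inr (Or.inr rfl))

end Cfsg.Agent.Block.Spec5
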